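import Mathlib
import Cfsg.Agent.OddOrderCharacters.WielandtElem
import Cfsg.Agent.H952.F4.Defs

/-!
# Brauer-Wielandt formula for two commuting elements of prime order (helper168, S5745 crossk)

`rank_two` : `x`, `y` commuting, `x ^ r = y ^ r = 1`, acting on a finite vector space `V` of characteristic not `r`: the sum of
the dimensions of the fixed spaces of `y`, `x y ^ i`, `i < r`, is `dim V + r d`, `d` the dimension of the common fixed space.
-/

set_option autoImplicit false
set_option linter.unusedSectionVars false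

namespace Cfsg.Agent.H168.CK

open Module
open Cfsg.Agent.H952.F4 (ev)

theorem pow_modr {G : Type*} [Monoid G] {x : G} {r : ℕ} (h : x ^ r = 1) (n : ℕ) : x ^ (n % r) = x ^ n := by
  conv_rhs => rw [← Nat.mod_add_div n r, pow_add, pow_mul, h, one_pow, mul_one]

section

variable {r : ℕ} [hr : Fact r.Prime]

/-- the group of type `(r, r)` -/
abbrev EE (r : ℕ) : Type := Multiplicative (ZMod r × ZMod r)

/-- the homomorphism given by two commuting elements -/
def hom2 {G : Type*} [Group G] {x y : G} (hx : x ^ r = 1) (hy : y ^ r = 1) (hxy : Commute x y) : EE r →* G :=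
  MonoidHom.mk' (fun f => x ^ (Multiplicative.toAdd f).1.val * y ^ (Multiplicative.toAdd f).2.val) (by
    intro f g
    have e1 : (Multiplicative.toAdd (f * g)).1 = (Multiplicative.toAdd f).1 + (Multiplicative.toAdd g).1 := rfl
    have e2 : (Multiplicative.toAdd (f * g)).2 = (Multiplicative.toAdd f).2 + (Multiplicative.toAdd g).2 := rfl
    rw [e1, e2, ZMod.val_add, ZMod.val_add, pow_modr hx, pow_modr hy, pow_add, pow_add]
    have h : Commute (x ^ (Multiplicative.toAdd g).1.val) (y ^ (Multiplicative.toAdd f).2.val) := hxy.pow_pow _ _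
    rw [mul_assoc, mul_assoc, ← mul_assoc (x ^ (Multiplicative.toAdd g).1.val), h.eq, mul_assoc])

theorem hom2_apply {G : Type*} [Group G] {x y : G} (hx : x ^ r = 1) (hy : y ^ r = 1) (hxy : Commute x y)
    (f : EE r) : hom2 hx hy hxy f = x ^ (Multiplicative.toAdd f).1.val * y ^ (Multiplicative.toAdd f).2.val := rfl

/-- the subgroups of order `r` -/
def XX (r : ℕ) : Option (ZMod r) → Subgroup (EE r)
  | none =>
    { carrier := {f | (Multiplicative.toAdd f).1 = 0}
      mul_mem' := fun {a b} ha hb => by
        show (Multiplicative.toAdd a).1 + (Multiplicative.toAdd b).1 = 0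
        rw [show (Multiplicative.toAdd a).1 = 0 from ha, show (Multiplicative.toAdd b).1 = 0 from hb, add_zero]
      one_mem' := rfl
      inv_mem' := fun {a} ha => by
        show -(Multiplicative.toAdd a).1 = 0
        rw [show (Multiplicative.toAdd a).1 = 0 from ha, neg_zero] }
  | some i =>
    { carrier := {f | (Multiplicative.toAdd f).2 = i * (Multiplicative.toAdd f).1}
      mul_mem' := fun {a b} ha hb => by
        show (Multiplicative.toAdd a).2 + (Multiplicative.toAdd b).2 =
          i * ((Multiplicative.toAdd a).1 + (Multiplicative.toAdd b).1)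
        rw [show (Multiplicative.toAdd a).2 = i * (Multiplicative.toAdd a).1 from ha,
          show (Multiplicative.toAdd b).2 = i * (Multiplicative.toAdd b).1 from hb, mul_add]
      one_mem' := by
        show (0 : ZMod r) = i * 0
        rw [mul_zero]
      inv_mem' := fun {a} ha => by
        show -(Multiplicative.toAdd a).2 = i * -(Multiplicative.toAdd a).1
        rw [show (Multiplicative.toAdd a).2 = i * (Multiplicative.toAdd a).1 from ha, mul_neg] }

theorem mem_none {f : EE r} : f ∈ XX r none ↔ (Multiplicative.toAdd f).1 = 0 := Iff.rfl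

theorem mem_some {f : EE r} {i : ZMod r} : f ∈ XX r (some i) ↔
    (Multiplicative.toAdd f).2 = i * (Multiplicative.toAdd f).1 := Iff.rfl

/-- the whole group and `r` times the trivial group -/
def YY (r : ℕ) : Option (Fin r) → Subgroup (EE r)
  | none => ⊤
  | some _ => ⊥

theorem cover (f : EE r) : Nat.card {i // f ∈ XX r i} = Nat.card {j // f ∈ YY r j} := by
  classical
  by_cases h1 : f = 1
  · subst h1
    rw [Nat.card_congr (Equiv.subtypeUnivEquiv fun i => one_mem (XX r i)),
      Nat.card_congr (Equiv.subtypeUnivEquiv fun i => one_mem (YY r i)), Finite.card_option, Finite.card_option,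
      Nat.card_zmod, Nat.card_fin]
  · have hY : Nat.card {j // f ∈ YY r j} = 1 := by
      refine Nat.card_eq_one_iff_unique.2 ⟨⟨fun a b => ?_⟩, ⟨⟨none, Subgroup.mem_top f⟩⟩⟩
      have key : ∀ a : {j // f ∈ YY r j}, a.1 = none := by
        rintro ⟨j, hj⟩
        cases j with
        | none => rfl
        | some _ => exact absurd (Subgroup.mem_bot.1 hj) h1
      exact Subtype.ext ((key a).trans (key b).symm)
    rw [hY]
    obtain ⟨a, b⟩ := f
    by_cases ha : a = 0
    · have hb : b ≠ 0 := fun h => h1 (by rw [ha, h]; rfl)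
      refine Nat.card_eq_one_iff_unique.2 ⟨⟨fun s t => ?_⟩, ⟨⟨none, ha⟩⟩⟩
      have key : ∀ s : {i // (⟨a, b⟩ : EE r) ∈ XX r i}, s.1 = none := by
        rintro ⟨s, hs⟩
        cases s with
        | none => rfl
        | some i =>
          have h2 : b = i * a := hs
          rw [ha, mul_zero] at h2
          exact absurd h2 hb
      exact Subtype.ext ((key s).trans (key t).symm)
    · refine Nat.card_eq_one_iff_unique.2 ⟨⟨fun s t => ?_⟩, ⟨⟨some (b / a), (div_mul_cancel₀ b ha).symm⟩⟩⟩
      have key : ∀ s : {i // (⟨a, b⟩ : EE r) ∈ XX r i}, s.1 = some (b / a) := by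
        rintro ⟨s, hs⟩
        cases s with
        | none => exact absurd hs ha
        | some i =>
          have h2 : b = i * a := hs
          have h3 : i = b / a := by rw [h2, mul_div_cancel_right₀ _ ha]
          exact congrArg some h3
      exact Subtype.ext ((key s).trans (key t).symm)

theorem card_XX (i : Option (ZMod r)) : Nat.card (XX r i) = r := by
  cases i with
  | none =>
    have e : ↥(XX r none) ≃ ZMod r :=
      { toFun := fun f => (Multiplicative.toAdd f.1).2
        invFun := fun b => ⟨Multiplicative.ofAdd (0, b), rfl⟩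
        left_inv := by
          rintro ⟨⟨a, b⟩, h⟩
          have h' : a = 0 := h
          subst h'
          rfl
        right_inv := fun b => rfl }
    rw [Nat.card_congr e, Nat.card_zmod]
  | some i =>
    have e : ↥(XX r (some i)) ≃ ZMod r :=
      { toFun := fun f => (Multiplicative.toAdd f.1).1
        invFun := fun a => ⟨Multiplicative.ofAdd (a, i * a), rfl⟩
        left_inv := by
          rintro ⟨⟨a, b⟩, h⟩
          have h' : b = i * a := h
          subst h'
          rfl
        right_inv := fun b => rfl }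
    rw [Nat.card_congr e, Nat.card_zmod]

variable {K V G : Type*} [Field K] [Finite K] [AddCommGroup V] [Module K V] [FiniteDimensional K V] [Group G]

/-- the additive action -/
def act (ρ : Representation K G V) {F : Type*} [Group F] (φ : F →* G) : F →* AddMonoid.End V where
  toFun f := (ρ (φ f)).toAddMonoidHom
  map_one' := by
    ext v
    show ρ (φ 1) v = v
    rw [map_one, map_one]
    rfl
  map_mul' a b := by
    ext v
    show ρ (φ (a * b)) v = ρ (φ a) (ρ (φ b) v)
    rw [map_mul, map_mul]
    rfl

theorem act_apply (ρ : Representation K G V) {F : Type*} [Group F] (φ : F →* G) (f : F) (v : V) :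
    act ρ φ f v = ρ (φ f) v := rfl

theorem card_fixed (ρ : Representation K G V) (g : G) :
    Nat.card {v : V // ρ g v = v} = Nat.card K ^ ev (ρ g) 1 := by
  unfold ev
  rw [← Module.natCard_eq_pow_finrank (K := K) (V := ↥(Module.End.eigenspace (ρ g) 1))]
  refine Nat.card_congr (Equiv.subtypeEquivRight fun v => ?_)
  rw [Module.End.mem_eigenspace_iff, one_smul]

/-- **Brauer-Wielandt formula** for two commuting elements of order `r` -/
theorem rank_two (ρ : Representation K G V) {x y : G} (hx : x ^ r = 1) (hy : y ^ r = 1) (hxy : Commute x y)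
    (hrK : (r : K) ≠ 0) :
    ∃ d, ev (ρ y) 1 + ∑ i : ZMod r, ev (ρ (x * y ^ i.val)) 1 = finrank K V + r * d := by
  classical
  have : Fintype K := Fintype.ofFinite K
  have : Finite V := Module.finite_of_finite K
  obtain ⟨p, hp⟩ := CharP.exists K
  have : CharP K p := hp
  have hpp : p.Prime := by
    rcases CharP.char_is_prime_or_zero K p with h | h
    · exact h
    · subst h
      exact absurd (CharP.charP_to_charZero K) (fun h => (not_finite K : False))
  have : Fact p.Prime := ⟨hpp⟩
  have hpr : ¬ p ∣ r := by
    intro h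
    exact hrK ((CharP.cast_eq_zero_iff K p r).2 h)
  have hV : ∀ v : V, p • v = 0 := by
    intro v
    rw [← Nat.cast_smul_eq_nsmul K, CharP.cast_eq_zero, zero_smul]
  set φ := hom2 (r := r) hx hy hxy with hφ
  have hcF : ¬ p ∣ Nat.card (EE r) := by
    have h1 : Nat.card (EE r) = r * r := by
      rw [show Nat.card (EE r) = Nat.card (ZMod r × ZMod r) from rfl, Nat.card_prod, Nat.card_zmod]
    rw [h1]
    intro h
    rcases hpp.dvd_mul.1 h with h | h <;> exact hpr h
  have h := Cfsg.Agent.OddOrderCharacters.WielandtElem.prod_eq_prod (r := p) hV (act ρ φ) hcF (XX r) (YY r) cover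
  rw [Fintype.prod_option, Fintype.prod_option, card_XX] at h
  have hq : 1 < Nat.card K := Finite.one_lt_card
  -- the fixed spaces
  have f0 : Nat.card {v : V // ∀ f ∈ XX r none, act ρ φ f v = v} = Nat.card K ^ ev (ρ y) 1 := by
    rw [← card_fixed]
    refine Nat.card_congr (Equiv.subtypeEquivRight fun v => ⟨fun hv => ?_, fun hv f hf => ?_⟩)
    · have h1 := hv (Multiplicative.ofAdd ((0 : ZMod r), (1 : ZMod r))) rfl
      rw [act_apply, hφ, hom2_apply] at h1
      have e1 : (Multiplicative.toAdd (Multiplicative.ofAdd ((0 : ZMod r), (1 : ZMod r)))).1.val = 0 := ZMod.val_zero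
      have e2 : (Multiplicative.toAdd (Multiplicative.ofAdd ((0 : ZMod r), (1 : ZMod r)))).2.val = 1 :=
        ZMod.val_one r
      rwa [e1, e2, pow_zero, one_mul, pow_one] at h1
    · rw [act_apply, hφ, hom2_apply, show (Multiplicative.toAdd f).1 = 0 from hf, ZMod.val_zero, pow_zero, one_mul]
      induction (Multiplicative.toAdd f).2.val with
      | zero => rw [pow_zero, map_one]; rfl
      | succ m ih => rw [pow_succ, map_mul, Module.End.mul_apply, hv, ih]
  have f1 : ∀ i : ZMod r, Nat.card {v : V // ∀ f ∈ XX r (some i), act ρ φ f v = v} =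
      Nat.card K ^ ev (ρ (x * y ^ i.val)) 1 := by
    intro i
    rw [← card_fixed]
    refine Nat.card_congr (Equiv.subtypeEquivRight fun v => ⟨fun hv => ?_, fun hv f hf => ?_⟩)
    · have h1 := hv (Multiplicative.ofAdd ((1 : ZMod r), i)) (mul_one i).symm
      rw [act_apply, hφ, hom2_apply] at h1
      have e1 : (Multiplicative.toAdd (Multiplicative.ofAdd ((1 : ZMod r), i))).1.val = 1 := ZMod.val_one r
      have e2 : (Multiplicative.toAdd (Multiplicative.ofAdd ((1 : ZMod r), i))).2.val = i.val := rfl
      rwa [e1, e2, pow_one] at h1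
    · have e3 : (Multiplicative.toAdd f).2 = i * (Multiplicative.toAdd f).1 := hf
      have e4 : φ f = (x * y ^ i.val) ^ (Multiplicative.toAdd f).1.val := by
        rw [hφ, hom2_apply, e3, ZMod.val_mul, pow_modr hy, (hxy.pow_right i.val).mul_pow, ← pow_mul]
      rw [act_apply, e4]
      induction (Multiplicative.toAdd f).1.val with
      | zero => rw [pow_zero, map_one]; rfl
      | succ m ih => rw [pow_succ, map_mul, Module.End.mul_apply, hv, ih]
  have f2 : Nat.card {v : V // ∀ f ∈ (⊥ : Subgroup (EE r)), act ρ φ f v = v} = Nat.card K ^ finrank K V := by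
    rw [← Module.natCard_eq_pow_finrank (K := K) (V := V)]
    refine Nat.card_congr (Equiv.subtypeUnivEquiv fun v f hf => ?_)
    rw [Subgroup.mem_bot.1 hf, map_one]
    rfl
  obtain ⟨d, f3⟩ : ∃ d, Nat.card {v : V // ∀ f ∈ (⊤ : Subgroup (EE r)), act ρ φ f v = v} = Nat.card K ^ d := by
    let W : Submodule K V :=
      { carrier := {v | ∀ f : EE r, ρ (φ f) v = v}
        add_mem' := fun ha hb f => by rw [map_add, ha f, hb f]
        zero_mem' := fun f => map_zero _
        smul_mem' := fun c v hv f => by rw [map_smul, hv f] }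
    refine ⟨finrank K W, ?_⟩
    rw [← Module.natCard_eq_pow_finrank (K := K) (V := ↥W)]
    exact Nat.card_congr (Equiv.subtypeEquivRight fun v => ⟨fun hv f => hv f (Subgroup.mem_top f), fun hv f _ => hv f⟩)
  refine ⟨d, ?_⟩
  have g1 : ∏ i : ZMod r, Nat.card {v : V // ∀ f ∈ XX r (some i), act ρ φ f v = v} ^ Nat.card (XX r (some i)) =
      Nat.card K ^ (r * ∑ i : ZMod r, ev (ρ (x * y ^ i.val)) 1) := by
    rw [Finset.prod_congr rfl fun i _ => by rw [f1 i, card_XX, ← pow_mul], Finset.prod_pow_eq_pow_sum,
      Finset.mul_sum]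
    congr 1
    exact Finset.sum_congr rfl fun i _ => mul_comm _ _
  have g2 : ∏ i : Fin r, Nat.card {v : V // ∀ f ∈ YY r (some i), act ρ φ f v = v} ^ Nat.card (YY r (some i)) =
      Nat.card K ^ (r * finrank K V) := by
    have : ∀ i : Fin r, Nat.card {v : V // ∀ f ∈ YY r (some i), act ρ φ f v = v} ^ Nat.card (YY r (some i)) =
        Nat.card K ^ finrank K V := by
      intro i
      show Nat.card {v : V // ∀ f ∈ (⊥ : Subgroup (EE r)), act ρ φ f v = v} ^ Nat.card (⊥ : Subgroup (EE r)) = _
      rw [f2, Subgroup.card_bot, pow_one]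
    rw [Finset.prod_congr rfl fun i _ => this i, Finset.prod_const, Finset.card_univ, Fintype.card_fin, ← pow_mul,
      mul_comm]
  have g3 : Nat.card {v : V // ∀ f ∈ YY r none, act ρ φ f v = v} ^ Nat.card (YY r none) =
      Nat.card K ^ (r * r * d) := by
    show Nat.card {v : V // ∀ f ∈ (⊤ : Subgroup (EE r)), act ρ φ f v = v} ^ Nat.card (⊤ : Subgroup (EE r)) = _
    rw [f3, Subgroup.card_top, ← pow_mul, mul_comm d]
    congr 2
    rw [show Nat.card (EE r) = Nat.card (ZMod r × ZMod r) from rfl, Nat.card_prod, Nat.card_zmod]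
  rw [f0, g1, g2, g3, ← pow_mul, ← pow_add, ← pow_add] at h
  have h2 := Nat.pow_right_injective hq h
  have h3 : r * (ev (ρ y) 1 + ∑ i : ZMod r, ev (ρ (x * y ^ i.val)) 1) = r * (finrank K V + r * d) := by
    linear_combination h2
  exact Nat.eq_of_mul_eq_mul_left hr.out.pos h3

end

end Cfsg.Agent.H168.CK
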