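import Cfsg.Agent.H168.CK.BW
import Cfsg.Agent.H758.EPX.Str

/-!
# Two conjugate commuting elements of prime order with commuting powers (helper168, S5745 crossk)

`Cfg r m x y a b g` : `x`, `y = x ^ g` commute, `a` maps `x` to `x ^ m` and centralises `y`, `b` maps `y` to `y ^ m` and centralises `x`.
`cfg_of_EPS` : it exists when the socle is `T ^ k`, `k ≥ 2`, and `T` has an element `t` of order `r` conjugate to `t ^ m`.
-/

set_option autoImplicit false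
set_option linter.unusedSectionVars false

namespace Cfsg.Agent.H168.CK

open Module
open Cfsg.Agent.H952.F4 (ev)
open Cfsg.Agent.H284 Cfsg.Agent.H209.EPX Cfsg.Agent.H758.EPX

universe u

/-- the configuration -/
structure Cfg {G : Type u} [Group G] (r m : ℕ) (x y a b g : G) : Prop where
  xr : x ^ r = 1
  comm : Commute x y
  ax : a * x * a⁻¹ = x ^ m
  ay : a * y * a⁻¹ = y
  bx : b * x * b⁻¹ = x
  by' : b * y * b⁻¹ = y ^ m
  gx : g * x * g⁻¹ = y
  ne : ∀ i : ℕ, x * y ^ i ≠ 1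

section Gen

variable {G : Type u} [Group G] {r m : ℕ} {x y a b g : G} (C : Cfg r m x y a b g)

include C

theorem Cfg.yr : y ^ r = 1 := by rw [← C.gx, conj_pow, C.xr, mul_one, mul_inv_cancel]

theorem Cfg.map {G' : Type*} [Group G'] (f : G →* G') (hf : Function.Injective f) :
    Cfg r m (f x) (f y) (f a) (f b) (f g) where
  xr := by rw [← map_pow, C.xr, map_one]
  comm := C.comm.map f
  ax := by rw [← map_inv, ← map_mul, ← map_mul, C.ax, map_pow]
  ay := by rw [← map_inv, ← map_mul, ← map_mul, C.ay]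
  bx := by rw [← map_inv, ← map_mul, ← map_mul, C.bx]
  by' := by rw [← map_inv, ← map_mul, ← map_mul, C.by', map_pow]
  gx := by rw [← map_inv, ← map_mul, ← map_mul, C.gx]
  ne i h := C.ne i (hf (by rw [map_mul, map_pow, h, map_one]))

theorem Cfg.x_ne : x ≠ 1 := by
  have := C.ne 0
  rwa [pow_zero, mul_one] at this

theorem Cfg.y_ne : y ≠ 1 := by
  intro h
  have h1 := C.gx
  rw [h, mul_inv_eq_one] at h1
  exact C.x_ne (mul_left_cancel (a := g) (by rw [h1, mul_one]))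

/-- `b` acts on `x y ^ i` -/
theorem Cfg.b_act (i : ℕ) : b * (x * y ^ i) * b⁻¹ = x * y ^ (m * i) := by
  have h1 : b * (x * y ^ i) * b⁻¹ = (b * x * b⁻¹) * (b * y * b⁻¹) ^ i := by rw [conj_pow]; group
  rw [h1, C.bx, C.by', ← pow_mul]

/-- `b a` acts on `x y ^ i` as the `m`-th power -/
theorem Cfg.ba_act (i : ℕ) : (b * a) * (x * y ^ i) * (b * a)⁻¹ = (x * y ^ i) ^ m := by
  have h0 : a * (x * y ^ i) * a⁻¹ = x ^ m * y ^ i := by
    have h1 : a * (x * y ^ i) * a⁻¹ = (a * x * a⁻¹) * (a * y * a⁻¹) ^ i := by rw [conj_pow]; group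
    rw [h1, C.ax, C.ay]
  have h2 : b * (x ^ m * y ^ i) * b⁻¹ = (b * x * b⁻¹) ^ m * (b * y * b⁻¹) ^ i := by rw [conj_pow, conj_pow]; group
  have h3 : (b * a) * (x * y ^ i) * (b * a)⁻¹ = b * (a * (x * y ^ i) * a⁻¹) * b⁻¹ := by group
  rw [h3, h0, h2, C.bx, C.by', (C.comm.pow_right i).mul_pow, ← pow_mul, ← pow_mul, mul_comm m i]

theorem Cfg.pow_r (i : ℕ) : (x * y ^ i) ^ r = 1 := by
  rw [(C.comm.pow_right i).mul_pow, C.xr, one_mul, ← pow_mul, mul_comm, pow_mul, C.yr, one_pow]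

end Gen

theorem ev_conj' {K V G : Type*} [Field K] [AddCommGroup V] [Module K V] [Group G] (ρ : Representation K G V)
    (g x : G) : ev (ρ (g * x * g⁻¹)) 1 = ev (ρ x) 1 := by
  have key : ∀ v, ρ (g * x * g⁻¹) v = v ↔ ρ x (ρ g⁻¹ v) = ρ g⁻¹ v := by
    intro v
    have h1 : ρ (g * x * g⁻¹) v = ρ g (ρ x (ρ g⁻¹ v)) := by
      rw [map_mul, map_mul]
      rfl
    have h2 : ∀ w, ρ g⁻¹ (ρ g w) = w := fun w => by
      rw [← Module.End.mul_apply, ← map_mul, inv_mul_cancel, map_one]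
      rfl
    have h3 : ∀ w, ρ g (ρ g⁻¹ w) = w := fun w => by
      rw [← Module.End.mul_apply, ← map_mul, mul_inv_cancel, map_one]
      rfl
    rw [h1]
    constructor
    · intro h
      have := congrArg (ρ g⁻¹) h
      rwa [h2] at this
    · intro h
      rw [h, h3]
  let e : Module.End.eigenspace (ρ (g * x * g⁻¹)) 1 ≃ₗ[K] Module.End.eigenspace (ρ x) 1 :=
    { toFun := fun v => ⟨ρ g⁻¹ v.1, by
        rw [Module.End.mem_eigenspace_iff, one_smul]
        exact (key v.1).1 (by have := v.2; rwa [Module.End.mem_eigenspace_iff, one_smul] at this)⟩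
      map_add' := fun v w => Subtype.ext (map_add _ _ _)
      map_smul' := fun c v => Subtype.ext (map_smul _ _ _)
      invFun := fun v => ⟨ρ g v.1, by
        rw [Module.End.mem_eigenspace_iff, one_smul]
        refine (key _).2 ?_
        have h2 : ρ g⁻¹ (ρ g v.1) = v.1 := by
          rw [← Module.End.mul_apply, ← map_mul, inv_mul_cancel, map_one]
          rfl
        rw [h2]
        have := v.2
        rwa [Module.End.mem_eigenspace_iff, one_smul] at this⟩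
      left_inv := fun v => Subtype.ext (by
        show ρ g (ρ g⁻¹ v.1) = v.1
        rw [← Module.End.mul_apply, ← map_mul, mul_inv_cancel, map_one]
        rfl)
      right_inv := fun v => Subtype.ext (by
        show ρ g⁻¹ (ρ g v.1) = v.1
        rw [← Module.End.mul_apply, ← map_mul, inv_mul_cancel, map_one]
        rfl) }
  exact e.finrank_eq

section Seven

instance fact7 : Fact (Nat.Prime 7) := ⟨by norm_num⟩

variable {K V : Type*} [Field K] [Finite K] [AddCommGroup V] [Module K V] [FiniteDimensional K V]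
  {G : Type u} [Group G] {x y a b g : G}

theorem sum_seven (f : ZMod 7 → ℕ) : ∑ i : ZMod 7, f i = f 0 + f 1 + f 2 + f 3 + f 4 + f 5 + f 6 :=
  Fin.sum_univ_seven f

/-- the formula for `t ~ t ^ 2` -/
theorem Cfg.sum2 (C : Cfg 7 2 x y a b g) (ρ : Representation K G V) (h7 : (7 : K) ≠ 0) :
    ∃ d, 2 * ev (ρ x) 1 + 3 * ev (ρ (x * y ^ 1)) 1 + 3 * ev (ρ (x * y ^ 3)) 1 = finrank K V + 7 * d := by
  obtain ⟨d, hd⟩ := rank_two (r := 7) ρ C.xr C.yr C.comm (by exact_mod_cast h7)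
  refine ⟨d, ?_⟩
  rw [← hd, sum_seven]
  have E : ∀ i, ev (ρ (x * y ^ (2 * i))) 1 = ev (ρ (x * y ^ i)) 1 := fun i => by
    rw [← C.b_act i, ev_conj']
  have M : ∀ i, ev (ρ (x * y ^ (i % 7))) 1 = ev (ρ (x * y ^ i)) 1 := fun i => by rw [pow_modr C.yr]
  have e0 : ev (ρ (x * y ^ (0 : ZMod 7).val)) 1 = ev (ρ x) 1 := by
    rw [ZMod.val_zero, pow_zero, mul_one]
  have ey : ev (ρ y) 1 = ev (ρ x) 1 := by rw [← C.gx, ev_conj']
  have e1 : ev (ρ (x * y ^ (1 : ZMod 7).val)) 1 = ev (ρ (x * y ^ 1)) 1 := rfl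
  have e2 : ev (ρ (x * y ^ (2 : ZMod 7).val)) 1 = ev (ρ (x * y ^ 1)) 1 := E 1
  have e4 : ev (ρ (x * y ^ (4 : ZMod 7).val)) 1 = ev (ρ (x * y ^ 1)) 1 := (E 2).trans (E 1)
  have e3 : ev (ρ (x * y ^ (3 : ZMod 7).val)) 1 = ev (ρ (x * y ^ 3)) 1 := rfl
  have e6 : ev (ρ (x * y ^ (6 : ZMod 7).val)) 1 = ev (ρ (x * y ^ 3)) 1 := E 3
  have e5 : ev (ρ (x * y ^ (5 : ZMod 7).val)) 1 = ev (ρ (x * y ^ 3)) 1 := ((M 12).trans (E 6)).trans (E 3)
  rw [e0, e1, e2, e3, e4, e5, e6, ey]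
  ring

/-- the formula for `t ~ t ^ 3` -/
theorem Cfg.sum3 (C : Cfg 7 3 x y a b g) (ρ : Representation K G V) (h7 : (7 : K) ≠ 0) :
    ∃ d, 2 * ev (ρ x) 1 + 6 * ev (ρ (x * y ^ 1)) 1 = finrank K V + 7 * d := by
  obtain ⟨d, hd⟩ := rank_two (r := 7) ρ C.xr C.yr C.comm (by exact_mod_cast h7)
  refine ⟨d, ?_⟩
  rw [← hd, sum_seven]
  have E : ∀ i, ev (ρ (x * y ^ (3 * i))) 1 = ev (ρ (x * y ^ i)) 1 := fun i => by
    rw [← C.b_act i, ev_conj']
  have M : ∀ i, ev (ρ (x * y ^ (i % 7))) 1 = ev (ρ (x * y ^ i)) 1 := fun i => by rw [pow_modr C.yr]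
  have e0 : ev (ρ (x * y ^ (0 : ZMod 7).val)) 1 = ev (ρ x) 1 := by
    rw [ZMod.val_zero, pow_zero, mul_one]
  have ey : ev (ρ y) 1 = ev (ρ x) 1 := by rw [← C.gx, ev_conj']
  have e1 : ev (ρ (x * y ^ (1 : ZMod 7).val)) 1 = ev (ρ (x * y ^ 1)) 1 := rfl
  have e3 : ev (ρ (x * y ^ (3 : ZMod 7).val)) 1 = ev (ρ (x * y ^ 1)) 1 := E 1
  have e2 : ev (ρ (x * y ^ (2 : ZMod 7).val)) 1 = ev (ρ (x * y ^ 1)) 1 := ((M 9).trans (E 3)).trans e3
  have e6 : ev (ρ (x * y ^ (6 : ZMod 7).val)) 1 = ev (ρ (x * y ^ 1)) 1 := (E 2).trans e2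
  have e4 : ev (ρ (x * y ^ (4 : ZMod 7).val)) 1 = ev (ρ (x * y ^ 1)) 1 := ((M 18).trans (E 6)).trans e6
  have e5 : ev (ρ (x * y ^ (5 : ZMod 7).val)) 1 = ev (ρ (x * y ^ 1)) 1 := ((M 12).trans (E 4)).trans e4
  rw [e0, e1, e2, e3, e4, e5, e6, ey]
  ring

/-- the classes of the elements -/
theorem Cfg.sq_of_cube (C : Cfg 7 3 x y a b g) (i : ℕ) : ∃ c, c * (x * y ^ i) * c⁻¹ = (x * y ^ i) ^ 2 := by
  refine ⟨(b * a) * (b * a), ?_⟩
  have h1 : (b * a) * (b * a) * (x * y ^ i) * ((b * a) * (b * a))⁻¹ =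
      (b * a) * ((b * a) * (x * y ^ i) * (b * a)⁻¹) * (b * a)⁻¹ := by group
  rw [h1, C.ba_act, ← conj_pow, C.ba_act, ← pow_mul, ← pow_modr (C.pow_r i) (3 * 3)]

end Seven

/-! ### the configuration in a stabiliser -/

theorem cfg_of_EPS {G : Type u} [Group G] [Finite G] {H N : Subgroup G} {T : Type} [Group T] {k : ℕ}
    {e : N ≃* (Fin k → T)} (h : EPS H N e) (hk : 2 ≤ k) {r m : ℕ} {t s : T} (ht : t ^ r = 1) (ht1 : t ≠ 1)
    (hs : s * t * s⁻¹ = t ^ m) : ∃ x y a b g : G, Cfg r m x y a b g := by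
  have hs' := h.simple
  let i0 : Fin k := ⟨0, by omega⟩
  let i1 : Fin k := ⟨1, by omega⟩
  have h01 : i0 ≠ i1 := by
    intro h
    have := congrArg Fin.val h
    simp [i0, i1] at this
  obtain ⟨g, -, hg⟩ := Cfsg.Agent.H758.EPX.EPS.trans h i0 i1
  have hmem : ∀ u : T, g * inj e i0 u * g⁻¹ ∈ fc e i1 := fun u => by
    rw [← hg]
    exact conj_mem_cj (inj_mem e i0 u)
  have hcomm : ∀ (u : T) (w : G), w ∈ fc e i1 → w * inj e i0 u * w⁻¹ = inj e i0 u := by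
    intro u w hw
    rw [← fc_comm e h01 (inj_mem e i0 u) hw, mul_inv_cancel_right]
  refine ⟨inj e i0 t, g * inj e i0 t * g⁻¹, inj e i0 s, g * inj e i0 s * g⁻¹, g, ?_, ?_, ?_, ?_, ?_, ?_, rfl, ?_⟩
  · rw [← map_pow, ht, map_one]
  · exact fc_comm e h01 (inj_mem e i0 t) (hmem t)
  · rw [← map_inv, ← map_mul, ← map_mul, hs, map_pow]
  · have := fc_comm e h01 (inj_mem e i0 s) (hmem t)
    rw [this, mul_inv_cancel_right]
  · exact hcomm t _ (hmem s)
  · have h1 : g * inj e i0 s * g⁻¹ * (g * inj e i0 t * g⁻¹) * (g * inj e i0 s * g⁻¹)⁻¹ =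
        g * (inj e i0 s * inj e i0 t * (inj e i0 s)⁻¹) * g⁻¹ := by group
    rw [h1, ← map_inv, ← map_mul, ← map_mul, hs, map_pow, conj_pow]
  · intro i hi
    have h1 : inj e i0 t ∈ fc e i1 := by
      rw [mul_eq_one_iff_eq_inv] at hi
      rw [hi]
      exact inv_mem (pow_mem (hmem t) i)
    have h2 := fc_disj e h01 (inj_mem e i0 t) h1
    exact ht1 (inj_injective e i0 (by rw [h2, map_one]))

end Cfsg.Agent.H168.CK
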