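import Cfsg.Agent.H168.CK.FFour
import Cfsg.Agent.H944.E6Tab
import Cfsg.Agent.H16.E6.Cov
import Cfsg.Agent.H91.E6Fix

/-!
# S5745 crossk: `E₆(q)`, `²E₆(q)`, characteristic not 7: `T ^ k`, `k ≥ 2`, `T` with an element `t` of order 7 conjugate to
`t ^ 3` (helper168)

On the 27-dimensional module of the simply connected group the elements `z` of order 7, `z ~ z ^ 2`, have a fixed space of
dimension 0, 3 or 9; the Brauer-Wielandt formula `2 a + 6 c = 27 + 7 d` has no solution.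
-/

set_option autoImplicit false

namespace Cfsg.Agent.H168.CK

open Cfsg Cfsg.Lie Module
open Cfsg.Agent.ChevalleyStructure.E6Min.Tables Cfsg.Agent.ChevalleyStructure.E6Min.Basic
  Cfsg.Agent.ChevalleyStructure.E6Min.Adjoint
open Cfsg.Agent.H952.F4 (ev)
open Cfsg.Agent.H163.E6
open Cfsg.Agent.H209.EPX

universe u

section Lift

variable {F : Type u} [Field F]

theorem conj_lift {x g : ↥(Zgrp F)} {m k : ℕ} (hm : Nat.Coprime m 3) (hxm : x ^ m = 1)
    (h : ad F g * ad F x * (ad F g)⁻¹ = ad F x ^ k) : g * x * g⁻¹ = x ^ k := by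
  have h1 : ad F (g * x * g⁻¹ * (x ^ k)⁻¹) = 1 := by
    rw [map_mul, map_mul, map_mul, map_inv, map_inv, map_pow, h, mul_inv_cancel]
  set w := g * x * g⁻¹ * (x ^ k)⁻¹ with hw
  have h2 : g * x * g⁻¹ = w * x ^ k := by rw [hw, inv_mul_cancel_right]
  have h3 := Cov.ker_pow h1
  have h4 : w ^ m = 1 := by
    have h5 : (g * x * g⁻¹) ^ m = 1 := by rw [conj_pow, hxm, mul_one, mul_inv_cancel]
    have hcm : Commute w (x ^ k) := (Cov.ker_comm h1 (x ^ k)).symm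
    rw [h2, hcm.mul_pow, ← pow_mul, mul_comm k m, pow_mul, hxm, one_pow, mul_one] at h5
    exact h5
  have h5 : w ^ Nat.gcd m 3 = 1 := by rw [pow_gcd_eq_one]; exact ⟨h4, h3⟩
  rw [hm, pow_one] at h5
  rw [h2, h5, one_mul]

theorem exists_lift {x : ↥(chevE6.group F)} (hx : x ^ 7 = 1) : ∃ X : ↥(Zgrp F), ad F X = x ∧ X ^ 7 = 1 := by
  obtain ⟨x0, hx0⟩ := ad_surjective x
  refine ⟨x0 ^ 15, ?_, ?_⟩
  · rw [map_pow, hx0, show 15 = 7 * 2 + 1 by norm_num, pow_add, pow_mul, hx, one_pow, one_mul, pow_one]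
  · have h1 : ad F (x0 ^ 7) = 1 := by rw [map_pow, hx0, hx]
    have h2 := Cov.ker_pow h1
    rw [← pow_mul, show 15 * 7 = (7 * 3) * 5 by norm_num, pow_mul, pow_mul, h2, one_pow]

/-- the configuration lifts to the simply connected group -/
theorem Cfg.lift {m : ℕ} {x y a b g : ↥(chevE6.group F)} (C : Cfg 7 m x y a b g) :
    ∃ X Y A B K : ↥(Zgrp F), Cfg 7 m X Y A B K := by
  obtain ⟨X, hX, hX7⟩ := exists_lift C.xr
  obtain ⟨A, hA⟩ := ad_surjective a
  obtain ⟨B, hB⟩ := ad_surjective b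
  obtain ⟨K, hK⟩ := ad_surjective g
  have hY : ad F (K * X * K⁻¹) = y := by rw [map_mul, map_mul, map_inv, hK, hX, C.gx]
  have hY7 : (K * X * K⁻¹) ^ 7 = 1 := by rw [conj_pow, hX7, mul_one, mul_inv_cancel]
  have h73 : Nat.Coprime 7 3 := by norm_num
  refine ⟨X, K * X * K⁻¹, A, B, K, hX7, ?_, ?_, ?_, ?_, ?_, rfl, ?_⟩
  · have h1 : X * (K * X * K⁻¹) * X⁻¹ = (K * X * K⁻¹) ^ 1 :=
      conj_lift h73 hY7 (by rw [hY, hX, pow_one, C.comm.eq, mul_inv_cancel_right])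
    rw [pow_one, mul_inv_eq_iff_eq_mul] at h1
    exact h1
  · exact conj_lift h73 hX7 (by rw [hX, hA, C.ax])
  · have h1 : A * (K * X * K⁻¹) * A⁻¹ = (K * X * K⁻¹) ^ 1 :=
      conj_lift h73 hY7 (by rw [hY, hA, pow_one, C.ay])
    rwa [pow_one] at h1
  · have h1 : B * X * B⁻¹ = X ^ 1 := conj_lift h73 hX7 (by rw [hX, hB, pow_one, C.bx])
    rwa [pow_one] at h1
  · exact conj_lift h73 hY7 (by rw [hY, hB, C.by'])
  · intro i hi
    apply C.ne i
    rw [← hX, ← hY, ← map_pow, ← map_mul, hi, map_one]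

end Lift

theorem e6_cfg {F : Type u} [Field F] [Finite F] (p : ℕ) [Fact p.Prime] [CharP F p] (hp : p ≠ 7)
    {x y a b g : ↥(chevE6.group F)} (C : Cfg 7 3 x y a b g) : False := by
  obtain ⟨X, Y, A, B, K, C'⟩ := C.lift
  have T : Tab p F := Tor.tab p
  obtain ⟨d, hd⟩ := C'.sum3 (V F) (seven_ne hp)
  have dim : finrank F (I27 → F) = 27 := by
    rw [Module.finrank_fintype_fun_eq_card]
    rfl
  have cls : ∀ i, ev (V F (X * Y ^ i)) 1 = 9 ∨ ev (V F (X * Y ^ i)) 1 = 3 ∨ ev (V F (X * Y ^ i)) 1 = 0 := by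
    intro i
    rcases T.seven_rat hp (X * Y ^ i) (C'.ne i) (C'.pow_r i) (C'.sq_of_cube i) with h | h | h
    · exact Or.inl h.1
    · exact Or.inr (Or.inl h.1)
    · exact Or.inr (Or.inr h.1)
  have h0 := cls 0
  rw [pow_zero, mul_one] at h0
  have h1 := cls 1
  rw [dim] at hd
  omega

/-- **`E₆(q)`, `p ≠ 7`: no socle `T ^ k`, `k ≥ 2`, when `T` has an element of order 7 conjugate to its cube.** -/
theorem e6_kill {F : Type u} [Field F] [Finite F] (p : ℕ) [Fact p.Prime] [CharP F p] (hp : p ≠ 7)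
    {H N : Subgroup ↥(chevE6.group F)} {T : Type} [Group T] {k : ℕ} {e : N ≃* (Fin k → T)} (h : EPS H N e)
    (hk : 2 ≤ k) {t s : T} (ht : t ^ 7 = 1) (ht1 : t ≠ 1) (hs : s * t * s⁻¹ = t ^ 3) : False := by
  obtain ⟨x, y, a, b, g, C⟩ := cfg_of_EPS h hk ht ht1 hs
  exact e6_cfg p hp C

/-- **`²E₆(q)`, `p ≠ 7`: no socle `T ^ k`, `k ≥ 2`, when `T` has an element of order 7 conjugate to its cube.** -/
theorem te6_kill {K : Type u} [Field K] [Finite K] (q : ℕ) (p : ℕ) [Fact p.Prime] [CharP K p] (hp : p ≠ 7)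
    {H N : Subgroup ↥(twistedE6 K q)} {T : Type} [Group T] {k : ℕ} {e : N ≃* (Fin k → T)} (h : EPS H N e)
    (hk : 2 ≤ k) {t s : T} (ht : t ^ 7 = 1) (ht1 : t ≠ 1) (hs : s * t * s⁻¹ = t ^ 3) : False := by
  obtain ⟨x, y, a, b, g, C⟩ := cfg_of_EPS h hk ht ht1 hs
  exact e6_cfg p hp (C.map (Subgroup.inclusion (H91.E6Fix.twistedE6_le_group K q))
    (Subgroup.inclusion_injective _))

end Cfsg.Agent.H168.CK
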