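import Cfsg.Agent.H225.EX.SqA7
import Cfsg.Agent.H286.EPK.TwEsix
import Cfsg.Agent.H523.EPX.TitsK
import Cfsg.Agent.H894.EK.Rows
import Cfsg.Agent.OrdDiv.Table
import Cfsg.Agent.H168.CK.Alt

/-!
# S5745 crossk: the structures `RowsE6` and `RowsTE6` (helper168)
-/

set_option autoImplicit false

namespace Cfsg.Agent.H168.CK

open Cfsg Cfsg.Agent.OrdDiv Cfsg.Agent.H209.EPX Cfsg.Agent.H894.EK
open Cfsg.Agent.H59.EP (TwoGen)

theorem card_e6_two (F : Type) [Field F] [Fintype F] (hF : Fintype.card F = 2) :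
    Nat.card ↥(Lie.chevE6.group F) = 214841575522005575270400 := by
  have h := (table.{0}).e6 F 2 hF
  norm_num at h
  exact h

theorem card_te6_two (K : Type) [Field K] [Fintype K] (hK : Fintype.card K = 2 ^ 2) :
    Nat.card ↥(Lie.twistedE6 K 2) = 76532479683774853939200 := by
  have h := (table.{0}).te6 K 2 Nat.prime_two.isPrimePow hK
  norm_num at h
  omega

/-- **The rows of `E₆(q)`** -/
theorem rowsE6 (hg : TwoGen.{0}) (F : Type) [Field F] [Fintype F] : RowsE6 F where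
  u33 := by
    rintro hF H N T _ e h ⟨K, _, _, hK, ⟨i⟩⟩
    exact H225.EX.e6q2_u33_sq (card_e6_two F hF) h hK i
  a7 := by
    rintro hF H N T _ e h ⟨i⟩
    exact H225.EX.e6q2_a7_sq hg (card_e6_two F hF) h i
  a10 := by
    rintro hF H N T _ e h ⟨i⟩
    have := H523.EPX.TK.charP_two (F := F) (n := 2) hF
    have : Fact (Nat.Prime 2) := ⟨Nat.prime_two⟩
    exact e6_alt 2 (by norm_num) h le_rfl (n := 10) (by norm_num) i
  tits := H523.EPX.TK.row_E6_tits F

/-- **The rows of `²E₆(q)`** -/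
theorem rowsTE6 (hg : TwoGen.{0}) (K : Type) [Field K] [Fintype K] {q : ℕ} (hK : Fintype.card K = q ^ 2) :
    RowsTE6 K q where
  u33 := by
    rintro rfl H N T _ e h ⟨F, _, _, hF, ⟨i⟩⟩
    exact H225.EX.te6q2_u33_sq (card_te6_two K hK) h hF i
  a7 := by
    rintro rfl H N T _ e h ⟨i⟩
    exact H225.EX.te6q2_a7_sq hg (card_te6_two K hK) h i
  a9 := by
    rintro rfl H N T _ e h ⟨i⟩
    exact H286.EPK.te6_two_alt (by rw [hK]; norm_num) e le_rfl (n := 9) le_rfl i
  tits := fun hq => H523.EPX.TK.row_TE6_tits K hK hq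

end Cfsg.Agent.H168.CK
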